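import Cfsg.Agent.Lib.CosetEnum.Defs

/-! Generated table data. -/

set_option autoImplicit false
set_option maxRecDepth 20000

namespace Cfsg.Lib.CosetEnum.Fi22Sub_bcdefg

/-- Table data. -/
def tabC_0_0 : Tab :=
  (.node 15 (.node 7 (.node 3 (.node 1 (.leaf 0x40000000000000015) (.node 1 (.leaf 0x40000000000000016) (.leaf 0x40000000000000017))) (.node 2 (.node 1 (.leaf 0x40000000000000018) (.leaf 0x40000000000000019)) (.node 1 (.leaf 0x100000000000000018000020000000000a) (.leaf 0x10000040000100002c0000200000400009)))) (.node 4 (.node 2 (.node 1 (.leaf 0x1000008000020000300000200000800008) (.leaf 0x100000c000030000340000200000c00007)) (.node 1 (.leaf 0x10000000000000001c000020000000000e) (.leaf 0x10000040000100003c000020000040000d))) (.node 2 (.node 1 (.leaf 0x100000800002000040000020000080000c) (.leaf 0x1000000000000000200000200000000011)) (.node 1 (.leaf 0x1000004000010000480000200000400010) (.leaf 0x1000000000000000240000200000000013))))) (.node 7 (.node 3 (.node 1 (.leaf 0x100001400004000014000040000380000300001000006) (.node 1 (.leaf 0x100001000003000010000030000440000300000c0000b) (.leaf 0x1000014000160000140000100001400007)))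 (.node 2 (.node 1 (.leaf 0x100000c0000200000c0000200004c000030000080000f) (.leaf 0x100001000018000010000010000100000c)) (.node 1 (.leaf 0x1000014000190000140000100001400008) (.leaf 0x100000800001000008000010000500000300000400012)))) (.node 4 (.node 2 (.node 1 (.leaf 0x100000c0001b00000c0000100000c00010) (.leaf 0x10000100001c000010000010000100000d)) (.node 1 (.leaf 0x10000140001d0000140000100001400009) (.leaf 0x100000400000000004000000000280000300000000014))) (.node 2 (.node 1 (.leaf 0x10000080001f0000080000100000800013) (.leaf 0x100000c0002000000c0000100000c00011)) (.node 1 (.leaf 0x100001000021000010000010000100000e) (.leaf 0x100001400022000014000010000140000a))))))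

/-- Table data. -/
def tabC_0 : Tab :=
  tabC_0_0

end Cfsg.Lib.CosetEnum.Fi22Sub_bcdefg
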